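import Mathlib.AlgebraicGeometry.Noetherian
import Mathlib.AlgebraicGeometry.Stalk
import Mathlib.RingTheory.Ideal.KrullsHeightTheorem
import Mathlib.RingTheory.DiscreteValuationRing.Basic

/-!
# Curves through a point of a Noetherian scheme
-/

universe u

open CategoryTheory AlgebraicGeometry IsLocalRing

namespace Groth.Agent.Curves

/-- In a Noetherian local ring, a prime maximal among those missing a given element of the maximal
ideal is immediately below the maximal ideal. -/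
theorem exists_prime_below_maximal {C : Type u} [CommRing C] [IsNoetherianRing C] [IsLocalRing C]
    (P : Ideal C) [P.IsPrime] {π : C} (hπP : π ∉ P) (hπ : π ∈ maximalIdeal C) :
    ∃ Q : Ideal C, Q.IsPrime ∧ P ≤ Q ∧ π ∉ Q ∧
      ∀ q : Ideal C, q.IsPrime → Q ≤ q → q = Q ∨ q = maximalIdeal C := by
  obtain ⟨Q, ⟨hQp, hPQ, hπQ⟩, hmax⟩ :=
    set_has_maximal_iff_noetherian.mpr (inferInstanceAs (IsNoetherian C C))
      {Q : Ideal C | Q.IsPrime ∧ P ≤ Q ∧ π ∉ Q} ⟨P, inferInstance, le_rfl, hπP⟩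
  refine ⟨Q, hQp, hPQ, hπQ, fun q hq hle ↦ or_iff_not_imp_left.mpr fun hne ↦ ?_⟩
  -- pass to `E = C ⧸ Q`
  let E := C ⧸ Q
  let mk := Ideal.Quotient.mk Q
  have hkey : ∀ p : Ideal E, p.IsPrime → p ≠ ⊥ → mk π ∈ p := by
    intro p hp hp0
    by_contra hπp
    have h1 : (p.comap mk).IsPrime := Ideal.comap_isPrime mk p
    refine hmax (p.comap mk) ⟨h1, hPQ.trans (fun c hc ↦ ?_), hπp⟩ ?_
    · show mk c ∈ p
      rw [Ideal.Quotient.eq_zero_iff_mem.mpr hc]; exact p.zero_mem
    · refine lt_of_le_of_ne (fun c hc ↦ ?_) fun he ↦ hp0 ((Submodule.eq_bot_iff _).mpr fun z hz ↦ ?_)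
      · show mk c ∈ p
        rw [Ideal.Quotient.eq_zero_iff_mem.mpr hc]; exact p.zero_mem
      · obtain ⟨z, rfl⟩ := Ideal.Quotient.mk_surjective z
        exact Ideal.Quotient.eq_zero_iff_mem.mpr (he ▸ (hz : z ∈ p.comap mk))
  have : IsLocalRing E := IsLocalRing.of_surjective' _ Ideal.Quotient.mk_surjective
  have hmE : ∀ p : Ideal E, p.IsPrime → p ≠ ⊥ → p = maximalIdeal E := by
    intro p hp hp0
    by_contra hpm
    have hS : ((Ideal.span {mk π}).minimalPrimes).Finite := Ideal.finite_minimalPrimes_of_isNoetherianRing E _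
    have hh1 : ∀ r ∈ (Ideal.span {mk π}).minimalPrimes, r.height ≤ 1 := fun r hr ↦
      Ideal.height_le_one_of_isPrincipal_of_mem_minimalPrimes _ r hr
    -- `p` contains a minimal prime over `π`, so `m` is not among them
    obtain ⟨r₀, hr₀, hr₀p⟩ := Ideal.exists_minimalPrimes_le
      (show Ideal.span {mk π} ≤ p from (Ideal.span_singleton_le_iff_mem _).mpr (hkey p hp hp0))
    have hnot : ¬ (maximalIdeal E : Set E) ⊆ ⋃ r ∈ (hS.toFinset : Set (Ideal E)), (r : Set E) := by
      intro hsub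
      obtain ⟨r, hr, hmr⟩ := (Ideal.subset_union_prime ⊥ ⊥ (fun r hr _ _ ↦
        (hS.mem_toFinset.mp hr).1.1)).mp hsub
      have hrm : r = maximalIdeal E :=
        le_antisymm (le_maximalIdeal (hS.mem_toFinset.mp hr).1.1.ne_top) hmr
      have hmin := (hS.mem_toFinset.mp hr).2 ⟨hp,
        (Ideal.span_singleton_le_iff_mem _).mpr (hkey p hp hp0)⟩ (hrm ▸ le_maximalIdeal hp.ne_top)
      exact hpm (le_antisymm (le_maximalIdeal hp.ne_top) (hrm ▸ hmin))
    obtain ⟨a, ham, hau⟩ := Set.not_subset.mp hnot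
    have ha0 : a ≠ 0 := fun h0 ↦ hau (by
      simp only [Set.mem_iUnion]
      exact ⟨r₀, hS.mem_toFinset.mpr hr₀, h0 ▸ r₀.zero_mem⟩)
    have haT : Ideal.span {a} ≠ ⊤ := fun h ↦ (mem_maximalIdeal a).mp ham
      (Ideal.span_singleton_eq_top.mp h)
    obtain ⟨s, hs⟩ := Ideal.nonempty_minimalPrimes haT
    have hsp : s.IsPrime := hs.1.1
    have has : a ∈ s := hs.1.2 (Ideal.mem_span_singleton_self a)
    have hs0 : s ≠ ⊥ := fun h ↦ ha0 (Ideal.mem_bot.mp (h ▸ has))
    have hsh : s.height ≤ 1 := Ideal.height_le_one_of_isPrincipal_of_mem_minimalPrimes _ s hs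
    obtain ⟨r, hr, hrs⟩ := Ideal.exists_minimalPrimes_le
      (show Ideal.span {mk π} ≤ s from (Ideal.span_singleton_le_iff_mem _).mpr (hkey s hsp hs0))
    have hrp : r.IsPrime := hr.1.1
    have hr0 : r ≠ ⊥ := fun h ↦ by
      have : mk π ∈ r := hr.1.2 (Ideal.mem_span_singleton_self _)
      rw [h, Ideal.mem_bot, Ideal.Quotient.eq_zero_iff_mem] at this
      exact hπQ this
    have hrs' : r = s := by
      by_contra hne'
      have : r.height < s.height :=
        Ideal.height_strict_mono_of_isPrime (lt_of_le_of_ne hrs hne')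
      have h0 : r.height = 0 := by
        have := this.trans_le hsh
        exact ENat.lt_one_iff_eq_zero.mp this
      rw [Ideal.height_eq_zero_iff, IsDomain.minimalPrimes_eq_singleton_bot] at h0
      exact hr0 h0
    exact hau (by
      simp only [Set.mem_iUnion]
      exact ⟨r, hS.mem_toFinset.mpr hr, hrs'.symm ▸ has⟩)
  have hker : RingHom.ker mk ≤ q := by rw [Ideal.mk_ker]; exact hle
  have : (q.map mk).IsPrime := Ideal.map_isPrime_of_surjective Ideal.Quotient.mk_surjective hker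
  have hback : (q.map mk).comap mk = q := by
    rw [Ideal.comap_map_of_surjective _ Ideal.Quotient.mk_surjective, ← RingHom.ker_eq_comap_bot]
    exact sup_eq_left.mpr hker
  have hq0 : q.map mk ≠ ⊥ := fun h ↦ hne (by
    rw [← hback, h, ← RingHom.ker_eq_comap_bot, Ideal.mk_ker])
  rw [← hback, hmE _ inferInstance hq0]
  exact IsLocalRing.eq_maximalIdeal (Ideal.comap_isMaximal_of_surjective _ Ideal.Quotient.mk_surjective)

/-- A closed point without proper generisation of a locally Noetherian scheme is open. -/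
theorem isOpen_singleton_of_minimal {X : Scheme.{u}} [IsLocallyNoetherian X] (x : X)
    (hgen : ∀ w, w ⤳ x → w = x) (hsp : ∀ w, x ⤳ w → w = x) : IsOpen ({x} : Set X) := by
  obtain ⟨SU, hSU, hxU, -⟩ := X.isBasis_affineOpens.exists_subset_of_mem_open (Set.mem_univ x) isOpen_univ
  obtain ⟨U, hU, rfl⟩ : ∃ U : X.Opens, IsAffineOpen U ∧ (U : Set X) = SU := hSU
  have : IsNoetherianRing Γ(X, U) := IsLocallyNoetherian.component_noetherian ⟨U, hU⟩
  obtain ⟨p, rfl⟩ : x ∈ Set.range hU.fromSpec := by rw [hU.range_fromSpec]; exact hxU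
  have hind := hU.fromSpec.isOpenEmbedding.isInducing
  have hmin : ∀ q : Spec Γ(X, U), q.asIdeal ≤ p.asIdeal → q = p := fun q hq ↦
    hU.fromSpec.isOpenEmbedding.injective
      (hgen _ (((PrimeSpectrum.le_iff_specializes _ _).mp hq).map hU.fromSpec.continuous))
  have hmax : ∀ q : Spec Γ(X, U), p.asIdeal ≤ q.asIdeal → q = p := fun q hq ↦
    hU.fromSpec.isOpenEmbedding.injective
      (hsp _ (((PrimeSpectrum.le_iff_specializes _ _).mp hq).map hU.fromSpec.continuous))
  have hfin : (minimalPrimes Γ(X, U)).Finite := minimalPrimes.finite_of_isNoetherianRing _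
  let others := hfin.toFinset.filter (· ≠ p.asIdeal)
  have hnle : ¬ others.inf id ≤ p.asIdeal := by
    rw [Ideal.IsPrime.inf_le' p.isPrime]
    rintro ⟨r, hr, hle⟩
    rw [Finset.mem_filter, hfin.mem_toFinset] at hr
    exact hr.2 (congrArg PrimeSpectrum.asIdeal (hmin ⟨r, hr.1.1.1⟩ hle))
  obtain ⟨g, hg, hgp⟩ := SetLike.not_le_iff_exists.mp hnle
  have hsing : (PrimeSpectrum.basicOpen g : Set (PrimeSpectrum Γ(X, U))) = {p} := by
    ext q
    constructor
    · intro hq
      obtain ⟨r, hr, hrq⟩ := Ideal.exists_minimalPrimes_le (bot_le (a := q.asIdeal))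
      by_cases hrp : r = p.asIdeal
      · exact hmax q (hrp ▸ hrq)
      · have hmem : r ∈ others := Finset.mem_filter.mpr ⟨hfin.mem_toFinset.mpr hr, hrp⟩
        exact absurd (hrq (Finset.inf_le (f := id) hmem hg)) hq
    · rintro rfl; exact hgp
  rw [← Set.image_singleton]
  have hop : IsOpen (PrimeSpectrum.basicOpen g : Set (PrimeSpectrum Γ(X, U))) :=
    (PrimeSpectrum.basicOpen g).2
  rw [hsing] at hop
  exact hU.fromSpec.isOpenEmbedding.isOpenMap _ hop

variable {X Y : Scheme.{u}} [IsLocallyNoetherian X] (f : X ⟶ Y)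

/-- Through `ξ ⤳ x` with `f ξ ≠ f x`, over a discrete valuation ring, there is a curve. -/
theorem exists_curve {ξ x : X} (h : ξ ⤳ x) [IsDomain (Y.presheaf.stalk (f x))]
    [IsDiscreteValuationRing (Y.presheaf.stalk (f x))] (hne : f ξ ≠ f x) :
    ∃ z : X, ξ ⤳ z ∧ z ⤳ x ∧ f z = f ξ ∧ ∀ w, z ⤳ w → w ⤳ x → w = z ∨ w = x := by
  let C := X.presheaf.stalk x
  obtain ⟨ϖ, hϖ⟩ := IsDiscreteValuationRing.exists_irreducible (Y.presheaf.stalk (f x))
  let π : C := (f.stalkMap x).hom ϖ
  have hr : ∀ {w}, w ⤳ x → ∃ P : Spec C, X.fromSpecStalk x P = w := fun {w} hw ↦ by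
    have : w ∈ Set.range (X.fromSpecStalk x) := by rw [Scheme.range_fromSpecStalk]; exact hw
    exact this
  have hrY : ∀ (q : Spec (Y.presheaf.stalk (f x))), Y.fromSpecStalk (f x) q ≠ f x → q.asIdeal = ⊥ := by
    intro q hq
    by_contra h0
    refine hq ?_
    have : q = closedPoint (Y.presheaf.stalk (f x)) :=
      PrimeSpectrum.ext (IsLocalRing.eq_maximalIdeal (IsPrime.to_maximal_ideal h0))
    rw [this, Scheme.fromSpecStalk_closedPoint]
  have hmap : ∀ P : Spec C, f (X.fromSpecStalk x P) =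
      Y.fromSpecStalk (f x) (Spec.map (f.stalkMap x) P) := fun P ↦ by
    rw [← Scheme.Hom.comp_apply, ← Scheme.SpecMap_stalkMap_fromSpecStalk]
    exact Scheme.Hom.comp_apply _ _ _
  have hiff : ∀ P : Spec C, f (X.fromSpecStalk x P) ≠ f x ↔ π ∉ P.asIdeal := by
    intro P
    constructor
    · intro hne' hπ
      have h0 := hrY _ (fun e ↦ hne' ((hmap P).trans e))
      exact hϖ.ne_zero (Ideal.mem_bot.mp (h0 ▸ (hπ : ϖ ∈ (Spec.map (f.stalkMap x) P).asIdeal)))
    · intro hπ he
      rw [hmap] at he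
      have hcl : Spec.map (f.stalkMap x) P = closedPoint (Y.presheaf.stalk (f x)) :=
        (Y.fromSpecStalk (f x)).isEmbedding.injective (he.trans Scheme.fromSpecStalk_closedPoint.symm)
      exact hπ (show ϖ ∈ (Spec.map (f.stalkMap x) P).asIdeal by rw [hcl]; exact hϖ.not_isUnit)
  obtain ⟨P, hP⟩ := hr h
  have hπP : π ∉ P.asIdeal := (hiff P).mp (hP.symm ▸ hne)
  have hπm : π ∈ maximalIdeal C := fun hu ↦ hϖ.not_isUnit (IsLocalHom.map_nonunit (f := (f.stalkMap x).hom) _ hu)
  obtain ⟨Q, hQ, hPQ, hπQ, hbetween⟩ := exists_prime_below_maximal P.asIdeal hπP hπm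
  let Q' : Spec C := ⟨Q, hQ⟩
  have hz : X.fromSpecStalk x Q' ⤳ x := by
    have : X.fromSpecStalk x Q' ∈ Set.range (X.fromSpecStalk x) := ⟨_, rfl⟩
    rwa [Scheme.range_fromSpecStalk] at this
  refine ⟨X.fromSpecStalk x Q', ?_, hz, ?_, fun w hw1 hw2 ↦ ?_⟩
  · rw [← hP]; exact ((PrimeSpectrum.le_iff_specializes _ _).mp hPQ).map (X.fromSpecStalk x).continuous
  · have h1 := hrY _ (fun e ↦ (hiff Q').mpr hπQ ((hmap Q').trans e))
    have h2 := hrY _ (fun e ↦ (hiff P).mpr hπP ((hmap P).trans e))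
    rw [hmap Q', ← hP, hmap P]
    exact congrArg _ (PrimeSpectrum.ext (h1.trans h2.symm))
  · obtain ⟨q, rfl⟩ := hr hw2
    have hle : Q ≤ q.asIdeal := (PrimeSpectrum.le_iff_specializes _ _).mpr
      ((X.fromSpecStalk x).isEmbedding.isInducing.specializes_iff.mp hw1)
    rcases hbetween q.asIdeal q.isPrime hle with e | e
    · exact Or.inl (congrArg _ (PrimeSpectrum.ext e))
    · refine Or.inr ?_
      rw [show q = closedPoint C from PrimeSpectrum.ext e]
      exact Scheme.fromSpecStalk_closedPoint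

end Groth.Agent.Curves
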